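import Mathlib

/-!
A linear operator of prime order `q` on an `F_p`-space whose centraliser-normaliser is transitive on
nonzero vectors and realises all powers: `p` is a primitive root mod `q`; and conversely.
-/

set_option autoImplicit false

namespace Cfsg.Agent.Lib.ThreeOrbits

open scoped IsMulCommutative

variable {p q : ℕ} [hpF : Fact p.Prime] [hqF : Fact q.Prime]
variable {V : Type*} [AddCommGroup V] [Module (ZMod p) V]

theorem orderOf_T {T : Module.End (ZMod p) V} (hT : T ^ q = 1) (hT1 : T ≠ 1) : orderOf T = q :=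
  orderOf_eq_prime hT hT1

/-- If the operators normalising `⟨T⟩` are transitive on nonzero vectors and induce all powers of
`T`, then `p` is a primitive root modulo `q`. -/
theorem orderOf_eq_of_transitive [Finite V] [Nontrivial V] (hpq : p ≠ q) (T : Module.End (ZMod p) V)
    (hT : T ^ q = 1) (hT1 : T ≠ 1)
    (htrans : ∀ v w : V, v ≠ 0 → w ≠ 0 → ∃ A : V ≃ₗ[ZMod p] V, A v = w ∧
      ∃ i : ℕ, A.conjAlgEquiv (ZMod p) T = T ^ i)
    (hgal : ∀ i : ℕ, ¬ q ∣ i → ∃ A : V ≃ₗ[ZMod p] V, A.conjAlgEquiv (ZMod p) T = T ^ i) :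
    orderOf (p : ZMod q) = q - 1 := by
  classical
  have hp := hpF.out
  have hq := hqF.out
  have hcop : Nat.Coprime p q := (Nat.coprime_primes hp hq).mpr hpq
  set d := orderOf (p : ZMod q) with hd
  have hunit : (p : ZMod q) ≠ 0 := by
    rw [ne_eq, ZMod.natCast_eq_zero_iff]
    exact fun h => hpq ((Nat.prime_dvd_prime_iff_eq hq hp).mp h).symm
  have hd0 : 0 < d := orderOf_pos_iff.mpr (isOfFinOrder_iff_pow_eq_one.mpr
    ⟨q - 1, Nat.sub_pos_of_lt hq.one_lt, ZMod.pow_card_sub_one_eq_one hunit⟩)
  have hdle : d ≤ q - 1 := Nat.le_of_dvd (Nat.sub_pos_of_lt hq.one_lt) (ZMod.orderOf_dvd_card_sub_one hunit)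
  haveI : Nontrivial (Module.End (ZMod p) V) := inferInstance
  haveI : Finite (Module.End (ZMod p) V) := Finite.of_injective _ DFunLike.coe_injective
  let K := Algebra.adjoin (ZMod p) ({T} : Set (Module.End (ZMod p) V))
  haveI : IsMulCommutative K := Algebra.isMulCommutative_adjoin_singleton _ T
  have hTK : T ∈ K := Algebra.self_mem_adjoin_singleton _ T
  haveI : CharP K p := charP_of_injective_algebraMap (algebraMap (ZMod p) K).injective p
  haveI : ExpChar K p := ExpChar.prime hp
  have hTd : T ^ p ^ d = T := by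
    conv_rhs => rw [← pow_one T]
    rw [(isOfFinOrder_iff_pow_eq_one.mpr ⟨q, hq.pos, hT⟩).pow_eq_pow_iff_modEq, orderOf_T hT hT1]
    rw [← ZMod.natCast_eq_natCast_iff, Nat.cast_pow, hd, pow_orderOf_eq_one, Nat.cast_one]
  have hfix : ∀ k : K, k ^ p ^ d = k := by
    rintro ⟨k, hk⟩
    induction hk using Algebra.adjoin_induction with
    | mem x hx =>
      obtain rfl : x = T := hx
      exact Subtype.ext hTd
    | algebraMap r =>
      show (algebraMap (ZMod p) K r) ^ p ^ d = algebraMap (ZMod p) K r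
      rw [← map_pow, ZMod.pow_card_pow]
    | add x y hx hy ihx ihy =>
      show ((⟨x, hx⟩ : K) + ⟨y, hy⟩) ^ p ^ d = ⟨x, hx⟩ + ⟨y, hy⟩
      rw [add_pow_char_pow, ihx, ihy]
    | mul x y hx hy ihx ihy =>
      show ((⟨x, hx⟩ : K) * ⟨y, hy⟩) ^ p ^ d = ⟨x, hx⟩ * ⟨y, hy⟩
      rw [mul_pow, ihx, ihy]
  -- conjugation by a normalising operator preserves `K`
  have hconjK : ∀ (A : V ≃ₗ[ZMod p] V) (i : ℕ), A.conjAlgEquiv (ZMod p) T = T ^ i →
      ∀ k ∈ K, A.conjAlgEquiv (ZMod p) k ∈ K := by
    intro A i hA k hk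
    induction hk using Algebra.adjoin_induction with
    | mem x hx =>
      obtain rfl : x = T := hx
      rw [hA]; exact pow_mem hTK i
    | algebraMap r => rw [AlgEquiv.commutes]; exact K.algebraMap_mem r
    | add x y _ _ ihx ihy => rw [map_add]; exact add_mem ihx ihy
    | mul x y _ _ ihx ihy => rw [map_mul]; exact mul_mem ihx ihy
  -- no idempotents except `0`, `1`
  have hidem : ∀ e : K, e * e = e → e ≠ 0 → e = 1 := by
    intro e he he0
    by_contra he1
    obtain ⟨u₀, hu₀⟩ : ∃ u₀, (e : Module.End (ZMod p) V) u₀ ≠ 0 := by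
      by_contra h
      push Not at h
      exact he0 (Subtype.ext (LinearMap.ext h))
    obtain ⟨z₀, hz₀⟩ : ∃ z₀, ((1 - e : K) : Module.End (ZMod p) V) z₀ ≠ 0 := by
      by_contra h
      push Not at h
      exact he1 (eq_of_sub_eq_zero (Subtype.ext (LinearMap.ext h) : (1 - e : K) = 0)).symm
    set u := (e : Module.End (ZMod p) V) u₀ with hu
    set z := ((1 - e : K) : Module.End (ZMod p) V) z₀ with hz
    have happ : ∀ (a b : K) (v : V), (a : Module.End (ZMod p) V) ((b : Module.End (ZMod p) V) v) =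
        ((a * b : K) : Module.End (ZMod p) V) v := fun a b v => rfl
    have hee : (e : Module.End (ZMod p) V) u = u := by rw [hu, happ, he]
    have hfe : ((1 - e : K) : Module.End (ZMod p) V) u = 0 := by
      rw [hu, happ, sub_mul, one_mul, he, sub_self]; rfl
    have hez : (e : Module.End (ZMod p) V) z = 0 := by
      rw [hz, happ, mul_sub, mul_one, he, sub_self]; rfl
    have hfz : ((1 - e : K) : Module.End (ZMod p) V) z = z := by
      rw [hz, happ]
      congr 2
      rw [sub_mul, one_mul, mul_sub, mul_one, he, sub_self, sub_zero]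
    have hw : u + z ≠ 0 := by
      intro h
      apply hu₀
      have := congrArg (fun v => (e : Module.End (ZMod p) V) v) h
      simpa [map_add, hee, hez] using this
    obtain ⟨A, hA, i, hAi⟩ := htrans u (u + z) hu₀ hw
    let ann : V → Set K := fun v => {k | (k : Module.End (ZMod p) V) v = 0}
    have hle : Nat.card (ann u) ≤ Nat.card (ann (u + z)) := by
      refine Nat.card_le_card_of_injective
        (fun k => (⟨⟨_, hconjK A i hAi _ k.1.2⟩, ?_⟩ : ann (u + z))) ?_
      · show A.conjAlgEquiv (ZMod p) (k.1 : Module.End (ZMod p) V) (u + z) = 0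
        rw [← hA, LinearEquiv.conjAlgEquiv_apply_apply, LinearEquiv.symm_apply_apply,
          (k.2 : (k.1 : Module.End (ZMod p) V) u = 0), map_zero]
      · intro a b hab
        exact Subtype.ext (Subtype.ext ((A.conjAlgEquiv (ZMod p)).injective
          (congrArg (fun x : ann (u + z) => ((x.1 : K) : Module.End (ZMod p) V)) hab)))
    have hsub : ann (u + z) ⊂ ann u := by
      refine Set.ssubset_iff_of_subset ?_ |>.mpr ⟨1 - e, hfe, ?_⟩
      · intro k hk
        have h1 : ((e * k : K) : Module.End (ZMod p) V) (u + z) = 0 := by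
          rw [← happ, (hk : (k : Module.End (ZMod p) V) (u + z) = 0), map_zero]
        rw [mul_comm, ← happ, map_add, hee, hez, add_zero] at h1
        exact h1
      · intro h
        have h' : ((1 - e : K) : Module.End (ZMod p) V) (u + z) = 0 := h
        rw [map_add, hfe, hfz, zero_add] at h'
        exact hz₀ h'
    have := Set.ncard_lt_ncard hsub (Set.toFinite _)
    rw [← Nat.card_coe_set_eq, ← Nat.card_coe_set_eq] at this
    omega
  have hpd2 : 2 ≤ p ^ d := hp.two_le.trans (Nat.le_self_pow hd0.ne' p)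
  have hfield : IsField K := by
    refine ⟨⟨0, 1, zero_ne_one⟩, mul_comm, fun {k} hk => ?_⟩
    have hks : k ^ (p ^ d - 1) * k = k := by
      rw [← pow_succ, Nat.sub_add_cancel (by omega), hfix]
    have he := hidem (k ^ (p ^ d - 1)) (by
        calc k ^ (p ^ d - 1) * k ^ (p ^ d - 1) = (k ^ (p ^ d - 1) * k) * k ^ (p ^ d - 2) := by
              rw [mul_assoc, ← pow_succ', show p ^ d - 2 + 1 = p ^ d - 1 by omega]
          _ = k ^ (p ^ d - 1) := by
              rw [hks, ← pow_succ', show p ^ d - 2 + 1 = p ^ d - 1 by omega])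
      (fun h => hk (by rw [← hks, h, zero_mul]))
    exact ⟨k ^ (p ^ d - 2), by rw [← pow_succ', show p ^ d - 2 + 1 = p ^ d - 1 by omega, he]⟩
  letI : Field K := hfield.toField
  haveI : Fintype K := Fintype.ofFinite _
  -- `K` has at most `p ^ d` elements
  have hcardK : Nat.card K ≤ p ^ d := by
    rw [Nat.card_eq_fintype_card, ← Finset.card_univ]
    refine (Polynomial.card_le_degree_of_subset_roots
      (p := (Polynomial.X ^ p ^ d - Polynomial.X : Polynomial K)) ?_).trans
      (FiniteField.X_pow_card_pow_sub_X_natDegree_eq K hd0.ne' hp.one_lt).le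
    intro x _
    rw [Polynomial.mem_roots (FiniteField.X_pow_card_pow_sub_X_ne_zero K hd0.ne' hp.one_lt)]
    simp [hfix x]
  have hrank : Module.finrank (ZMod p) K ≤ d := by
    rw [Module.natCard_eq_pow_finrank (K := ZMod p) (V := K), Nat.card_zmod] at hcardK
    exact (Nat.pow_le_pow_iff_right hp.one_lt).mp hcardK
  -- `q - 1` distinct automorphisms
  have hauto : ∀ i : Fin (q - 1), ∃ σ : K →ₐ[ZMod p] K, (σ ⟨T, hTK⟩ : Module.End (ZMod p) V) = T ^ (i.1 + 1) := by
    intro i
    obtain ⟨A, hA⟩ := hgal (i.1 + 1) (fun h => by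
      have := Nat.le_of_dvd (Nat.succ_pos _) h
      omega)
    exact ⟨((A.conjAlgEquiv (ZMod p)).toAlgHom.comp K.val).codRestrict K
      (fun k => hconjK A _ hA _ k.2), hA⟩
  choose σ hσ using hauto
  have hinj : Function.Injective σ := by
    intro i j h
    have := hσ i
    rw [h, hσ j] at this
    have hlt : ∀ k : Fin (q - 1), k.1 + 1 < orderOf T := fun k => by
      rw [orderOf_T hT hT1]; omega
    exact Fin.ext (Nat.succ_injective (pow_injOn_Iio_orderOf (hlt j) (hlt i) this)).symm
  have hcard := (Nat.card_le_card_of_injective σ hinj).trans (card_algHom_le_finrank (ZMod p) K K)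
  rw [Nat.card_fin] at hcard
  omega

open Polynomial in
/-- If `p` is a primitive root modulo `q`, an operator of order `q` whose nontrivial powers are fixed
point free is normalised by a transitive family realising all Galois twists. -/
theorem exists_semilinear [Finite V] (hpq : p ≠ q) (hprim : orderOf (p : ZMod q) = q - 1)
    (T : Module.End (ZMod p) V) (hT : T ^ q = 1)
    (hfpf : ∀ i : ℕ, ¬ q ∣ i → ∀ v : V, (T ^ i) v = v → v = 0) :
    (∀ v w : V, v ≠ 0 → w ≠ 0 → ∃ A : V ≃+ V, A v = w ∧ ∀ u, A (T u) = T (A u)) ∧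
    (∀ i : ℕ, ¬ q ∣ i → ∃ A : V ≃+ V, ∀ u, A (T u) = (T ^ i) (A u)) := by
  classical
  rcases subsingleton_or_nontrivial V with hV | hV
  · exact ⟨fun v w hv => absurd (Subsingleton.elim v 0) hv,
      fun i _ => ⟨AddEquiv.refl V, fun u => Subsingleton.elim _ _⟩⟩
  have hp := hpF.out
  have hq := hqF.out
  have hpn : ¬ p ∣ q := fun h => hpq ((Nat.prime_dvd_prime_iff_eq hp hq).mp h)
  set Φ : (ZMod p)[X] := cyclotomic q (ZMod p) with hΦ
  have hirr : Irreducible Φ := by
    refine ZMod.irreducible_of_dvd_cyclotomic_of_natDegree hpn dvd_rfl ?_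
    rw [natDegree_cyclotomic, Nat.totient_prime hq, ← hprim, ← orderOf_units, ZMod.coe_unitOfCoprime]
  haveI hmax : (Ideal.span ({Φ} : Set (ZMod p)[X])).IsMaximal :=
    PrincipalIdealRing.isMaximal_of_irreducible hirr
  have hmul : Φ * (X - 1) = X ^ q - 1 := cyclotomic_prime_mul_X_sub_one _ q
  have hΦT : aeval T Φ = 0 := by
    ext v
    have h2 : (T - 1) ((aeval T Φ) v) = 0 := by
      have := congrArg (aeval T) (mul_comm (X - 1 : (ZMod p)[X]) Φ ▸ hmul :
        (X - 1) * Φ = X ^ q - 1)
      rw [map_mul, map_sub, map_sub, aeval_X, map_one, map_pow, aeval_X, hT, sub_self] at this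
      exact LinearMap.congr_fun this v
    refine hfpf 1 (fun h => hq.one_lt.ne' (Nat.dvd_one.mp h)) _ ?_
    rw [pow_one]
    rwa [LinearMap.sub_apply, Module.End.one_apply, sub_eq_zero] at h2
  let L := (ZMod p)[X] ⧸ Ideal.span ({Φ} : Set (ZMod p)[X])
  letI : Field L := Ideal.Quotient.field _
  let ρ : L →+* Module.End (ZMod p) V := Ideal.Quotient.lift _ (aeval T).toRingHom (by
    intro a ha
    obtain ⟨c, rfl⟩ := Ideal.mem_span_singleton.mp ha
    show aeval T (Φ * c) = 0
    rw [map_mul, hΦT, zero_mul])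
  letI : Module L V := Module.compHom V ρ
  set t : L := Ideal.Quotient.mk _ X with ht
  have hρt : ρ t = T := by
    show aeval T X = T
    exact aeval_X T
  have hsmul : ∀ u : V, t • u = T u := fun u => by
    show ρ t u = T u
    rw [hρt]
  have hpow : ∀ (i : ℕ) (u : V), t ^ i • u = (T ^ i) u := fun i u => by
    show ρ (t ^ i) u = _
    rw [map_pow, hρt]
  constructor
  · intro v w hv hw
    obtain ⟨f₁, hf₁⟩ := Module.Projective.exists_dual_ne_zero L hv
    obtain ⟨f₂, hf₂⟩ := Module.Projective.exists_dual_ne_zero L hw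
    obtain ⟨f, hfv, hfw⟩ : ∃ f : Module.Dual L V, f v ≠ 0 ∧ f w ≠ 0 := by
      by_cases h1 : f₁ w = 0
      · by_cases h2 : f₂ v = 0
        · exact ⟨f₁ + f₂, by simp [h2, hf₁], by simp [h1, hf₂]⟩
        · exact ⟨f₂, h2, hf₂⟩
      · exact ⟨f₁, hf₁, h1⟩
    let B : V →ₗ[L] V := LinearMap.id + ((f v)⁻¹ • f).smulRight (w - v)
    have hB : ∀ u, B u = u + ((f v)⁻¹ * f u) • (w - v) := fun u => rfl
    have hinj : Function.Injective B := by
      rw [← LinearMap.ker_eq_bot, eq_bot_iff]
      intro u hu
      rw [LinearMap.mem_ker, hB] at hu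
      have h2 := congrArg f hu
      rw [map_add, map_smul, map_sub, map_zero, smul_eq_mul] at h2
      have h3 : f u * f w = 0 := by
        have : f u + (f v)⁻¹ * f u * (f w - f v) = (f v)⁻¹ * (f u * f w) := by
          field_simp; ring
        rw [this] at h2
        exact (mul_eq_zero.mp h2).resolve_left (inv_ne_zero hfv)
      have h4 : f u = 0 := (mul_eq_zero.mp h3).resolve_right hfw
      rw [h4, mul_zero, zero_smul, add_zero] at hu
      exact hu
    have hbij : Function.Bijective B := ⟨hinj, Finite.surjective_of_injective hinj⟩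
    let e : V ≃ₗ[L] V := LinearEquiv.ofBijective B hbij
    refine ⟨e.toAddEquiv, ?_, fun u => ?_⟩
    · show B v = w
      rw [hB, inv_mul_cancel₀ hfv, one_smul, add_sub_cancel]
    · show B (T u) = T (B u)
      rw [← hsmul, map_smul, hsmul]
  · intro i hi
    have hti : t ^ i ≠ 1 := by
      intro h
      obtain ⟨v, hv⟩ := exists_ne (0 : V)
      exact hv (hfpf i hi v (by rw [← hpow, h, one_smul]))
    have hΦti : aeval (t ^ i) Φ = 0 := by
      have := congrArg (aeval (t ^ i)) hmul
      rw [map_mul, map_sub, map_sub, aeval_X, map_one, map_pow, aeval_X] at this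
      have hq1 : (t ^ i) ^ q = 1 := by
        rw [← pow_mul, mul_comm, pow_mul]
        suffices t ^ q = 1 by rw [this, one_pow]
        rw [ht, ← map_pow, ← (Ideal.Quotient.mk _).map_one, Ideal.Quotient.mk_eq_mk_iff_sub_mem,
          Ideal.mem_span_singleton]
        exact Dvd.intro _ hmul
      rw [hq1, sub_self] at this
      exact (mul_eq_zero.mp this).resolve_right (sub_ne_zero.mpr hti)
    let σ : L →+* L := Ideal.Quotient.lift _ (aeval (t ^ i) : (ZMod p)[X] →ₐ[ZMod p] L).toRingHom (by
      intro a ha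
      obtain ⟨c, rfl⟩ := Ideal.mem_span_singleton.mp ha
      show aeval (t ^ i) (Φ * c) = 0
      rw [map_mul, hΦti, zero_mul])
    have hσt : σ t = t ^ i := by
      show aeval (t ^ i) X = _
      exact aeval_X _
    haveI : Finite (Module.End (ZMod p) V) := Finite.of_injective _ DFunLike.coe_injective
    haveI : Finite L := Finite.of_injective ρ ρ.injective
    have hσbij : Function.Bijective σ := ⟨σ.injective, Finite.surjective_of_injective σ.injective⟩
    haveI : Module.Finite L V := Module.Finite.of_finite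
    let b := Module.finBasis L V
    let σe : L ≃+ L := (RingEquiv.ofBijective σ hσbij).toAddEquiv
    let A : V ≃+ V :=
      (b.equivFun.toAddEquiv.trans (AddEquiv.piCongrRight fun _ => σe)).trans b.equivFun.symm.toAddEquiv
    refine ⟨A, fun u => ?_⟩
    rw [← hsmul, ← hpow]
    show b.equivFun.symm (fun k => σ (b.equivFun (t • u) k)) = t ^ i • b.equivFun.symm (fun k => σ (b.equivFun u k))
    rw [← map_smul, map_smul b.equivFun]
    congr 1
    funext k
    simp [map_mul, hσt]

end Cfsg.Agent.Lib.ThreeOrbits
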